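import Groth.Agent.RegLocal.Basic
import Groth.Agent.RegComplLib.Basic
import Groth.Agent.PurityLib.BranchPoint
import Groth.Agent.GrSegreLib.Dim
import Mathlib.RingTheory.Etale.StandardEtale

/-!
# Cyclic covers `A[t]/(t^e - s)` of regular rings
-/

set_option autoImplicit false
universe u
open Polynomial IsLocalRing

namespace Groth.Agent.CyclicCoverLib

variable (A : Type u) [CommRing A]

theorem etale_adjoinRoot (s : A) (hs : IsUnit s) (e : ℕ) (he : 0 < e) (heu : IsUnit (e : A)) :
    Algebra.Etale A (AdjoinRoot (X ^ e - C s)) := by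
  obtain ⟨s', hs'⟩ := hs.exists_left_inv
  obtain ⟨u, hu⟩ := heu.exists_left_inv
  let P : StandardEtalePair A :=
    { f := X ^ e - C s
      monic_f := monic_X_pow_sub_C s he.ne'
      g := 1
      cond := ⟨X * C (u * s'), C (-s'), 0, by
        have hX : (X : A[X]) ^ (e - 1) * X = X ^ e := by rw [← pow_succ, Nat.sub_add_cancel he]
        have h1 : (C (u : A) : A[X]) * C ((e : A)) = 1 := by rw [← C_mul, hu, C_1]
        have h2 : (C (s' : A) : A[X]) * C s = 1 := by rw [← C_mul, hs', C_1]
        rw [derivative_sub, derivative_X_pow, derivative_C, sub_zero, pow_zero, C_mul, C_neg]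
        linear_combination (C u * C ((e : A)) * C s') * hX + (X ^ e * C s') * h1 + h2⟩ }
  haveI : IsLocalization.Away (1 : AdjoinRoot P.f) (Localization.Away (AdjoinRoot.mk P.f P.g)) := by
    have : AdjoinRoot.mk P.f P.g = (1 : AdjoinRoot P.f) := map_one _
    rw [this]; infer_instance
  exact Algebra.Etale.of_equiv (P.equivAwayAdjoinRoot.trans
    ((IsLocalization.atOne (AdjoinRoot P.f)
      (Localization.Away (AdjoinRoot.mk P.f P.g))).symm.restrictScalars A))

theorem isLocalRing_and_regular [IsRegularLocalRing A] (s : A) (hs : s ≠ 0)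
    (hsm : s ∈ maximalIdeal A) [IsRegularLocalRing (A ⧸ Ideal.span {s})] (e : ℕ) (he : 0 < e) :
    IsRegularLocalRing (AdjoinRoot (X ^ e - C s)) := by
  classical
  haveI : IsDomain A := RegLocal.isDomain (R := A)
  have hf : (X ^ e - C s : A[X]).Monic := monic_X_pow_sub_C s he.ne'
  let B := AdjoinRoot (X ^ e - C s)
  let t : B := AdjoinRoot.root _
  haveI : Module.Finite A B := hf.finite_adjoinRoot
  haveI : Module.Free A B := hf.free_adjoinRoot
  haveI : IsNoetherianRing B := IsNoetherianRing.of_finite A B
  have hdeg : (X ^ e - C s : A[X]).natDegree = e := natDegree_X_pow_sub_C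
  have hinj : Function.Injective (algebraMap A B) := AdjoinRoot.of.injective_of_degree_ne_zero (by
    rw [degree_eq_natDegree hf.ne_zero, hdeg]
    exact_mod_cast he.ne')
  haveI : Nontrivial B := hinj.nontrivial
  have hte : t ^ e = algebraMap A B s := by
    have : aeval t (X ^ e - C s : A[X]) = 0 := by rw [AdjoinRoot.aeval_eq, AdjoinRoot.mk_self]
    simpa [sub_eq_zero] using this
  -- generators
  obtain ⟨d, hd⟩ := RegLocal.exists_nat_ringKrullDim (R := A)
  obtain ⟨x, c, hc, hx, hI⟩ := RegLocal.exists_generators_of_quot_regular A hd (Ideal.span {s})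
  obtain ⟨e', he'⟩ := RegLocal.exists_nat_ringKrullDim (R := A ⧸ Ideal.span {s})
  have hd1 : e' + 1 = d := by
    have hreg : RingTheory.Sequence.IsRegular A [s] := by
      refine ⟨(RingTheory.Sequence.isWeaklyRegular_singleton_iff A s).2
        (IsRegular.of_ne_zero hs).left, ?_⟩
      rw [Ideal.ofList_singleton, smul_eq_mul, Ideal.mul_top]
      exact Ne.symm (Ideal.span_singleton_ne_top hsm)
    have h := ringKrullDim_add_length_eq_ringKrullDim_of_isRegular [s] hreg
    have hiso : ringKrullDim (A ⧸ Ideal.ofList [s]) = ringKrullDim (A ⧸ Ideal.span {s}) :=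
      ringKrullDim_eq_of_ringEquiv (Ideal.quotEquivOfEq (Ideal.ofList_singleton s))
    rw [hiso, he', hd] at h
    exact_mod_cast h
  -- maximal ideal of the quotient is generated by `e'` elements
  obtain ⟨y, hy⟩ := RegLocal.exists_generators (R := A ⧸ Ideal.span {s})
  have hne : (maximalIdeal (A ⧸ Ideal.span {s})).spanFinrank = e' := by
    have := IsRegularLocalRing.spanFinrank_maximalIdeal (R := A ⧸ Ideal.span {s})
    rw [he'] at this; exact_mod_cast this
  choose z hz using fun i => Ideal.Quotient.mk_surjective (y i)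
  have hm : maximalIdeal A ≤ Ideal.span {s} ⊔ Ideal.span (Set.range z) := by
    intro a ha
    have h1 : Ideal.Quotient.mk (Ideal.span {s}) a ∈ maximalIdeal (A ⧸ Ideal.span {s}) :=
      fun hu => by
        obtain ⟨b, hb⟩ := hu.exists_right_inv
        obtain ⟨b, rfl⟩ := Ideal.Quotient.mk_surjective b
        rw [← map_mul, ← map_one (Ideal.Quotient.mk (Ideal.span {s})), Ideal.Quotient.eq] at hb
        have h1 : a * b - 1 ∈ maximalIdeal A :=
          (Ideal.span_singleton_le_iff_mem _).2 hsm hb
        have h2 := sub_mem (Ideal.mul_mem_right b _ ha) h1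
        rw [sub_sub_cancel] at h2
        exact (maximalIdeal.isMaximal A).ne_top ((Ideal.eq_top_iff_one _).2 h2)
    rw [← hy, show Set.range y = Ideal.Quotient.mk (Ideal.span {s}) '' Set.range z by
      rw [← Set.range_comp]; exact congrArg Set.range (funext fun i => (hz i).symm),
      ← Ideal.map_span] at h1
    obtain ⟨b, hb, hab⟩ := (Ideal.mem_map_iff_of_surjective _ Ideal.Quotient.mk_surjective).1 h1
    rw [Ideal.Quotient.eq] at hab
    rw [show a = -(b - a) + b by ring]
    exact Submodule.add_mem_sup (neg_mem hab) hb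
  let J : Ideal B := Ideal.span (insert t (Set.range fun i => algebraMap A B (z i)))
  have hmJ : (maximalIdeal A).map (algebraMap A B) ≤ J := by
    refine (Ideal.map_mono hm).trans ?_
    rw [Ideal.map_sup, Ideal.map_span, Ideal.map_span, Set.image_singleton, sup_le_iff,
      Ideal.span_le, Ideal.span_le]
    refine ⟨?_, ?_⟩
    · rw [Set.singleton_subset_iff, ← hte]
      exact Ideal.pow_mem_of_mem _ (Ideal.subset_span (Set.mem_insert _ _)) _ he
    · rw [← Set.range_comp]
      exact (Set.subset_insert _ _).trans Ideal.subset_span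
  have hMJ : ∀ M : Ideal B, M.IsMaximal → M = J := by
    intro M hM
    have hover : M.comap (algebraMap A B) = maximalIdeal A :=
      IsLocalRing.eq_maximalIdeal (Ideal.isMaximal_comap_of_isIntegral_of_isMaximal M)
    have htM : t ∈ M := hM.isPrime.mem_of_pow_mem e (by
      rw [hte, ← Ideal.mem_comap, hover]; exact hsm)
    refine le_antisymm (fun b hb => ?_) ?_
    · obtain ⟨q, rfl⟩ := AdjoinRoot.mk_surjective b
      rw [← X_mul_divX_add q, map_add, map_mul, AdjoinRoot.mk_C, AdjoinRoot.mk_X] at hb ⊢
      have ha : AdjoinRoot.of (X ^ e - C s) (q.coeff 0) ∈ M :=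
        (Ideal.add_mem_iff_right M (M.mul_mem_right _ htM)).1 hb
      refine add_mem (J.mul_mem_right _ (Ideal.subset_span (Set.mem_insert _ _))) (hmJ ?_)
      refine Ideal.mem_map_of_mem (algebraMap A B) ?_
      rw [← hover]; exact ha
    · rw [Ideal.span_le, Set.insert_subset_iff]
      refine ⟨htM, ?_⟩
      rintro _ ⟨i, rfl⟩
      rw [SetLike.mem_coe, ← Ideal.mem_comap, hover, mem_maximalIdeal, mem_nonunits_iff]
      intro hu
      have h2 : y i ∈ maximalIdeal (A ⧸ Ideal.span {s}) := hy ▸ Ideal.subset_span ⟨i, rfl⟩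
      exact h2 (hz i ▸ hu.map _)
  obtain ⟨M, hM⟩ := Ideal.exists_maximal B
  haveI : IsLocalRing B := IsLocalRing.of_unique_max_ideal ⟨M, hM, fun N hN => by
    rw [hMJ N hN, hMJ M hM]⟩
  refine IsRegularLocalRing.of_spanFinrank_maximalIdeal_le B ?_
  haveI : Algebra.IsIntegral A B := Algebra.IsIntegral.of_finite A B
  rw [hMJ (maximalIdeal B) inferInstance,
    ← GrSegreLib.ringKrullDim_eq_of_integral_injective (algebraMap A B) hinj
      (algebraMap_isIntegral_iff.2 inferInstance), hd]
  have hfin : (insert t (Set.range fun i => algebraMap A B (z i))).Finite :=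
    (Set.finite_range _).insert t
  refine le_trans (Nat.cast_le.2 (Submodule.spanFinrank_span_le_ncard_of_finite hfin)) ?_
  refine Nat.cast_le.2 ((Set.ncard_insert_le _ _).trans ?_)
  rw [← hd1, ← hne, ← Set.image_univ]
  refine Nat.add_le_add_right ((Set.ncard_image_le Set.finite_univ).trans ?_) 1
  rw [Set.ncard_univ, Nat.card_eq_fintype_card, Fintype.card_fin]

theorem isRegularRing_adjoinRoot [IsRegularLocalRing A] (s : A) (hs : s ≠ 0)
    (hreg : IsRegularRing (A ⧸ Ideal.span {s})) (e : ℕ) (he : 0 < e) (heu : IsUnit (e : A)) :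
    IsRegularRing (AdjoinRoot (X ^ e - C s)) := by
  by_cases hu : IsUnit s
  · haveI := etale_adjoinRoot A s hu e he heu
    haveI : IsNoetherianRing (AdjoinRoot (X ^ e - C s)) := inferInstance
    refine ⟨fun q hq => ?_⟩
    exact ((PurityLib.dim_regular_of_etale (q.under A) q).2).2
      (RegLocal.isRegularLocalRing_localization A _)
  · haveI : IsLocalRing (A ⧸ Ideal.span {s}) := RegLocal.isLocalRing_quot (R := A)
      (fun h => hu (Ideal.span_singleton_eq_top.1 h))
    haveI := hreg
    haveI := IsRegularLocalRing.of_isRegularRing_of_isLocalRing (A ⧸ Ideal.span {s})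
    haveI := isLocalRing_and_regular A s hs hu e he
    exact ⟨fun q hq => RegLocal.isRegularLocalRing_localization _ q⟩

end Groth.Agent.CyclicCoverLib
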