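import Groth.Agent.FF.Unramified
import Groth.Agent.FF.RR
import Groth.Agent.FF.AlgClosed
import Groth.Agent.FF.Conorm

/-!
# Cyclic covers giving a positive divisor a section
-/

set_option autoImplicit false
set_option linter.style.haveILetI false
set_option maxHeartbeats 1000000

noncomputable section

namespace Groth.Agent.CyclicCoverLib

open FunFld
open scoped WithZero Polynomial IntermediateField

universe u v w

variable {k : Type u} [Field k] {K : Type v} [Field K] [Algebra k K]

/-- A large multiple of a positive divisor has a member missing finitely many places. -/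
theorem exists_function [IsAlgClosed k] (hK : IsFunctionField k K) {D : Divisor k K} (hD : 0 < D.deg)
    (Ps : Finset (Place k K)) :
    ∃ (m : ℕ) (f : K), 0 < m ∧ (m : k) ≠ 0 ∧ f ≠ 0 ∧ (∀ P, 0 ≤ P.ord f + m * D P) ∧
      ∀ P ∈ Ps, P.ord f + m * D P = 0 := by
  classical
  obtain ⟨m, hm, hmk⟩ : ∃ m : ℕ, 2 * genus k K + 2 ≤ m ∧ (m : k) ≠ 0 := by
    by_cases h : ((2 * genus k K + 2 : ℕ) : k) = 0
    · refine ⟨2 * genus k K + 3, by omega, ?_⟩
      push_cast at h ⊢
      rw [show (2 * (genus k K : k) + 3) = (2 * (genus k K : k) + 2) + 1 by ring, h, zero_add]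
      exact one_ne_zero
    · exact ⟨_, le_rfl, h⟩
  let A : Divisor k K := (m : ℤ) • D
  have hA : A.deg = m * D.deg := FF.deg_smul _ _
  have hAlarge : 2 * (genus k K : ℤ) + 2 ≤ A.deg := by
    rw [hA]; nlinarith
  haveI := FF.finite_L hK A
  let p : Option Ps → Submodule k (L A) := fun o => match o with
    | none => ⊥
    | some P => (L (A - Finsupp.single P.1 1)).comap (L A).subtype
  have hproper : ∀ o, p o ≠ ⊤ := by
    intro o htop
    have hl := FF.ell_of_deg_large hK (D := A) (by omega)
    cases o with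
    | none =>
      have h1 : Module.finrank k (⊥ : Submodule k (L A)) = 0 := finrank_bot k _
      have h2 : (⊥ : Submodule k (L A)) = ⊤ := htop
      rw [h2, finrank_top] at h1
      simp only [ell] at hl
      omega
    | some P =>
      have hle : L A ≤ L (A - Finsupp.single P.1 1) := fun x hx => by
        have : (⟨x, hx⟩ : L A) ∈ p (some P) := htop ▸ Submodule.mem_top
        exact this
      haveI := FF.finite_L hK (A - Finsupp.single P.1 1)
      have h1 := Submodule.finrank_mono hle
      have hl' := FF.ell_of_deg_large hK (D := A - Finsupp.single P.1 1) (by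
        rw [FF.deg_sub, FF.deg_single_ac hK]; omega)
      rw [FF.deg_sub, FF.deg_single_ac hK] at hl'
      simp only [ell] at hl hl'
      omega
  haveI : Infinite k := IsAlgClosed.instInfinite
  obtain ⟨f, hf⟩ := Submodule.exists_forall_notMem_of_forall_ne_top p hproper
  have hf0 : (f : K) ≠ 0 := fun h => hf none (by rw [Submodule.mem_bot]; exact Subtype.ext h)
  have hord : ∀ P, 0 ≤ P.ord (f : K) + m * D P := fun P => (FF.mem_L_iff_ord hf0).1 f.2 P
  refine ⟨m, f, by omega, hmk, hf0, hord, fun P hP => ?_⟩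
  by_contra hne
  refine hf (some ⟨P, hP⟩) ((FF.mem_L_iff_ord hf0).2 fun Q => ?_)
  have hQ := hord Q
  have hAQ : A Q = m * D Q := rfl
  rw [Finsupp.sub_apply, hAQ]
  rcases eq_or_ne Q P with rfl | hQP
  · rw [Finsupp.single_eq_same]; omega
  · rw [Finsupp.single_eq_of_ne hQP]; omega

variable {K' : Type w} [Field K'] [Algebra K K'] [Algebra k K'] [IsScalarTower k K K'] [FiniteDimensional K K']

/-- The conorm gets a section from an `m`th root. -/
theorem mem_L_conorm_of_pow (hK : IsFunctionField k K) {D : Divisor k K} {m : ℕ} (hm : 0 < m) {f : K} (hf : f ≠ 0)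
    (hord : ∀ P, 0 ≤ P.ord f + m * D P) {t : K'} (ht : t ^ m = algebraMap K K' f) : t ∈ L (conorm K' D) := by
  have ht0 : t ≠ 0 := fun h => hf ((map_eq_zero (algebraMap K K')).1 (by rw [← ht, h, zero_pow (by omega)]))
  refine (FF.mem_L_iff_ord ht0).2 fun Q => ?_
  obtain ⟨P, hP⟩ := FF.exists_isOver hK Q
  rw [FF.conorm_apply hK _ hP]
  have h1 : (m : ℤ) * Q.ord t = ramIdx Q P * P.ord f := by
    rw [← FF.ord_pow, ht, FF.ord_of_isOverWith (FF.isOverWith_ramIdx hP)]
  have h2 : 0 ≤ (m : ℤ) * (Q.ord t + ramIdx Q P * D P) := by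
    rw [mul_add, h1, ← mul_left_comm, ← mul_add]
    exact mul_nonneg (Int.natCast_nonneg _) (hord P)
  exact nonneg_of_mul_nonneg_right h2 (by exact_mod_cast hm)

/-- An `m`th root of a function whose order is divisible by `m` generates an unramified extension. -/
theorem ramIdx_eq_one_of_root (hK : IsFunctionField k K) [Algebra.IsSeparable K K'] {m : ℕ} (hm : 0 < m)
    (hmk : (m : k) ≠ 0) {f : K} (hf : f ≠ 0) {t : K'} (ht : t ^ m = algebraMap K K' f) (hgen : K⟮t⟯ = ⊤)
    {P : Place k K} {d : ℤ} (hd : P.ord f + m * d = 0) {Q : Place k K'} (hQ : IsOver Q P) :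
    ramIdx Q P = 1 := by
  classical
  obtain ⟨u, hu0, hu⟩ := FF.exists_ord_eq P d
  set c := f * u ^ m
  have hc0 : c ≠ 0 := mul_ne_zero hf (pow_ne_zero _ hu0)
  have hco : P.ord c = 0 := by rw [FF.ord_mul P hf (pow_ne_zero _ hu0), FF.ord_pow, hu]; exact hd
  have hcv : P.1 c = 1 := by rw [FF.v_eq_exp P hc0, hco, neg_zero, WithZero.exp_zero]
  set y := t * algebraMap K K' u
  have hym : y ^ m = algebraMap K K' c := by rw [mul_pow, ht, ← map_pow, ← map_mul]
  have hy : K⟮y⟯ = ⊤ := by
    refine eq_top_iff.2 (hgen.symm.le.trans ?_)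
    rw [IntermediateField.adjoin_le_iff, Set.singleton_subset_iff, SetLike.mem_coe]
    have hty : t = y * algebraMap K K' u⁻¹ := by
      rw [mul_assoc, ← map_mul, mul_inv_cancel₀ hu0, map_one, mul_one]
    rw [hty]
    exact mul_mem (IntermediateField.mem_adjoin_simple_self K y) (IntermediateField.algebraMap_mem _ _)
  letI : Algebra P.O K' := ((algebraMap K K').comp P.O.subtype).toAlgebra
  haveI : IsScalarTower P.O K K' := IsScalarTower.of_algebraMap_eq fun _ => rfl
  let c₀ : P.O := ⟨c, hcv.le⟩
  have hc₀ : algebraMap P.O K' c₀ = algebraMap K K' c := rfl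
  set p : P.O[X] := Polynomial.X ^ m - Polynomial.C c₀
  have hp : Polynomial.aeval y p = 0 := by
    rw [map_sub, map_pow, Polynomial.aeval_X, Polynomial.aeval_C, hc₀, hym, sub_self]
  have hyi : IsIntegral P.O y := ⟨p, Polynomial.monic_X_pow_sub_C _ (by omega), hp⟩
  haveI : Module.IsTorsionFree P.O K' := Module.isTorsionFree_iff_algebraMap_injective.mpr
    ((algebraMap K K').injective.comp Subtype.val_injective)
  refine FF.ramIdx_eq_one_of_unit hK hy hyi hQ ?_
  obtain ⟨r, hr⟩ := minpoly.isIntegrallyClosed_dvd hyi hp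
  have hle : ∀ q : P.O[X], Q.1 (Polynomial.aeval y q) ≤ 1 := by
    have hQc : ∀ b : P.O, Q.1 (algebraMap P.O K' b) ≤ 1 := fun b => (FF.le_one_iff_of_isOver hQ (b : K)).2 b.2
    have hQy : Q.1 y ≤ 1 := by
      refine (pow_le_one_iff (n := m) (by omega)).1 ?_
      rw [← map_pow, hym]
      exact (FF.le_one_iff_of_isOver hQ c).2 hcv.le
    intro q
    induction q using Polynomial.induction_on' with
    | add q₁ q₂ h₁ h₂ => rw [map_add]; exact (Valuation.map_add _ _ _).trans (max_le h₁ h₂)
    | monomial n b =>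
      rw [Polynomial.aeval_monomial, map_mul, map_pow]
      exact mul_le_one' (hQc b) (pow_le_one' hQy n)
  have hder : Polynomial.aeval y (Polynomial.derivative (minpoly P.O y)) * Polynomial.aeval y r =
      (m : K') * y ^ (m - 1) := by
    have h := congrArg (fun q => Polynomial.aeval y (Polynomial.derivative q)) hr
    simp only [p, Polynomial.derivative_sub, Polynomial.derivative_X_pow, Polynomial.derivative_C, sub_zero,
      Polynomial.derivative_mul, map_add, map_mul, minpoly.aeval, zero_mul, add_zero, map_natCast,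
      map_pow, Polynomial.aeval_X] at h
    exact h.symm
  have hone : Q.1 ((m : K') * y ^ (m - 1)) = 1 := by
    have hyv : Q.1 y = 1 := by
      refine (pow_eq_one_iff_left (n := m) (by omega)).1 ?_
      rw [← map_pow, hym, FF.isOverWith_ramIdx hQ, hcv, one_pow]
    have hmv : Q.1 (m : K') = 1 := by
      rw [← map_natCast (algebraMap k K') m]
      exact FF.v_algebraMap Q hmk
    rw [map_mul, map_pow, hyv, hmv, one_pow, one_mul]
  rw [minpoly.isIntegrallyClosed_eq_field_fractions' K hyi, Polynomial.derivative_map, Polynomial.aeval_map_algebraMap]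
  refine le_antisymm (hle _) ?_
  refine (hone.symm.le).trans ?_
  rw [← hder, map_mul]
  exact mul_le_of_le_one_right' (hle r)

end Groth.Agent.CyclicCoverLib
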