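import Groth.Agent.CyclicCoverLib.Core
import Groth.Agent.S2345
import Groth.Agent.S19541
import Groth.Agent.FinBirLib.Smooth
import Groth.Agent.CastSeveriLib.Curve
import Groth.Agent.CurveFF.Radicial
import Groth.Agent.CurveFF.MapPlaces
import Groth.Agent.CurveFF.SmoothReg
import Groth.Agent.CurveFF.Morph
import Groth.Agent.CurveFF.GenEtale
import Groth.Agent.CurveFF.VeryAmple
import Groth.Agent.DimFormulaLib.Scheme
import Groth.Agent.FittSheafLib.Omega
import Groth.Agent.S2158
import Groth.Agent.S8915
import Groth.Agent.QFinLib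

/-!
# The curve of a finite extension of a function field
-/

set_option autoImplicit false
set_option backward.isDefEq.respectTransparency false
set_option linter.style.haveILetI false
set_option maxHeartbeats 1000000

universe u

open CategoryTheory CategoryTheory.Limits AlgebraicGeometry TopologicalSpace
open scoped IntermediateField

noncomputable section

namespace Groth.Agent.CyclicCoverLib

attribute [local instance] Curv2.stalkAlgebra
attribute [local instance high] FunFld.Place.algRes

open Groth.Agent

theorem topologicalKrullDim_eq_one {k : Type u} [Field k] {X : Scheme.{u}} [X.Over (Spec (CommRingCat.of k))]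
    [IsProper (X ↘ Spec (CommRingCat.of k))] [Nonempty X]
    (h : ∀ x : X, IsClosed ({x} : Set X) → ringKrullDim (X.presheaf.stalk x) = 1) : topologicalKrullDim X = 1 := by
  haveI := EulerIneqLib.isNoetherian_proper (X := X) k
  have hex : ∀ x : X, ∃ c, x ⤳ c ∧ IsClosed ({c} : Set X) := fun x => by
    obtain ⟨c, hc, hc'⟩ := (isClosed_closure (s := ({x} : Set X))).exists_closed_singleton ⟨x, subset_closure rfl⟩
    exact ⟨c, specializes_iff_mem_closure.2 hc, hc'⟩
  rw [DimFormulaLib.topologicalKrullDim_eq_iSup_stalk]
  refine le_antisymm (iSup_le fun x => ?_) ?_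
  · obtain ⟨c, hc, hc'⟩ := hex x
    rw [← h c hc', ringKrullDim_stalk_eq_coheight, ringKrullDim_stalk_eq_coheight]
    exact_mod_cast Order.coheight_anti (show c ≤ x from hc)
  · obtain ⟨c, -, hc'⟩ := hex (Classical.arbitrary X)
    rw [← h c hc']
    exact le_iSup (fun x : X => ringKrullDim (X.presheaf.stalk x)) c

variable {k : Type u} [Field k] [IsAlgClosed k]

theorem fg_trdeg_of_finite {K L : Type u} [Field K] [Field L] [Algebra k K] [Algebra k L] [Algebra K L]
    [IsScalarTower k K L] [FiniteDimensional K L] (hK : FunFld.IsFunctionField k K) :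
    (⊤ : IntermediateField k L).FG ∧ Algebra.trdeg k L = 1 := by
  obtain ⟨⟨x, hx, hfin⟩, -⟩ := hK
  haveI := hfin
  haveI : Algebra.EssFiniteType k k⟮x⟯ :=
    IntermediateField.essFiniteType_iff.2 (IntermediateField.fg_adjoin_of_finite (Set.finite_singleton x))
  haveI : Algebra.EssFiniteType k K := Algebra.EssFiniteType.comp k k⟮x⟯ K
  haveI : Algebra.EssFiniteType k L := Algebra.EssFiniteType.comp k K L
  refine ⟨IntermediateField.fg_top k L, ?_⟩
  have hb : IsTranscendenceBasis k fun _ : PUnit.{u + 1} => x := by
    refine isTranscendenceBasis_iff_algebraicIndependent_isAlgebraic.2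
      ⟨algebraicIndependent_unique_type_iff.2 hx, ?_⟩
    rw [Set.range_const]
    exact ⟨fun a => IntermediateField.isAlgebraic_adjoin_iff.1 (Algebra.IsAlgebraic.isAlgebraic (R := k⟮x⟯) a)⟩
  rw [← trdeg_add_eq k K (A := L), trdeg_eq_zero (R := K) (A := L), add_zero, ← hb.cardinalMk_eq_trdeg]
  simp

variable {Y : Scheme.{u}} [Y.Over (Spec (CommRingCat.of k))] [IsProper (Y ↘ Spec (CommRingCat.of k))] [IsIntegral Y]
  [VBLib.IsRegCurve Y]

/-- The finite map of curves attached to a finite extension of the function field. -/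
theorem exists_curve (hdimY : topologicalKrullDim Y = 1) {L : Type u} [Field L] [Algebra k L]
    [Algebra Y.functionField L] [IsScalarTower k Y.functionField L] [FiniteDimensional Y.functionField L] :
    ∃ (X : Scheme.{u}) (_ : X.Over (Spec (CommRingCat.of k))) (_ : IsIntegral X)
      (_ : IsProper (X ↘ Spec (CommRingCat.of k))) (_ : Smooth (X ↘ Spec (CommRingCat.of k)))
      (_ : VBLib.IsRegCurve X) (f : X ⟶ Y) (_ : IsFinite f) (_ : Surjective f),
      topologicalKrullDim X = 1 ∧ f ≫ (Y ↘ Spec (CommRingCat.of k)) = X ↘ Spec (CommRingCat.of k) ∧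
        letI := NormHomLib.ffAlg f
        Nonempty (L ≃ₐ[Y.functionField] X.functionField) := by
  obtain ⟨hfg, htr⟩ := fg_trdeg_of_finite (L := L)
    (CurveFF.isFunctionField k hdimY (CurveFF.h0_eq_one k hdimY))
  obtain ⟨X, iOv, iInt, hP, hN, hdim0, e, he⟩ := S2345.result k L hfg htr
  haveI := hP
  have hdim := topologicalKrullDim_eq_one (k := k) hdim0
  haveI : IsLocallyNoetherian X := LocallyOfFiniteType.isLocallyNoetherian (X ↘ Spec (CommRingCat.of k))
  haveI := CurveFF.isRegCurve_of_normal hdim hN
  have hreg : ∀ x : X, IsRegularLocalRing (X.presheaf.stalk x) := fun x => by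
    haveI := (hN x).1
    haveI := (hN x).2
    have h := hdim.le
    rw [DimFormulaLib.topologicalKrullDim_eq_iSup_stalk] at h
    haveI : Ring.KrullDimLE 1 (X.presheaf.stalk x) :=
      Ring.krullDimLE_iff.2 ((le_iSup (fun x : X => ringKrullDim (X.presheaf.stalk x)) x).trans h)
    exact FinBirLib.isRegularLocalRing_of_normal_dimLE_one _
  haveI := CurveFF.smooth_of_regular (k := k) hreg
  let ψ : Y.functionField →ₐ[k] X.functionField :=
    { (e.symm.toRingHom.comp (algebraMap Y.functionField L) : Y.functionField →+* X.functionField) with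
      commutes' := fun c => by
        show e.symm (algebraMap Y.functionField L (algebraMap k Y.functionField c)) = _
        rw [← IsScalarTower.algebraMap_apply, ← he c, e.symm_apply_apply]
        }
  obtain ⟨f, ⟨hfψ, hf⟩, -⟩ := CurveFF.existsUnique_hom_of_algHom hdim ψ
  have hgen : f (genericPoint X) = genericPoint Y := by
    have h := congrArg (fun g => g (IsLocalRing.closedPoint X.functionField)) hfψ
    simp only [Scheme.Hom.comp_base, TopCat.comp_app] at h
    rw [Scheme.fromSpecStalk_closedPoint] at h
    refine h.trans ?_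
    haveI : Subsingleton (Spec (Y.functionField)) := inferInstanceAs (Subsingleton (PrimeSpectrum Y.functionField))
    refine Eq.trans (congrArg (fun z => Y.fromSpecStalk (genericPoint Y) z)
      (Subsingleton.elim (α := Spec (Y.functionField)) _ (IsLocalRing.closedPoint Y.functionField))) ?_
    exact Scheme.fromSpecStalk_closedPoint
  haveI := CurveFF.isFinite_of_map_generic hdim hdimY f hf hgen
  haveI := CurveFF.GenEtale.surjective_of_generic f hgen
  refine ⟨X, iOv, iInt, hP, inferInstance, inferInstance, f, inferInstance, inferInstance, hdim, hf, ?_⟩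
  letI := NormHomLib.ffAlg f
  have hψ : NormHomLib.ffMap f = CommRingCat.ofHom ψ.toRingHom := by
    have h := (CurveFF.fromSpecStalk_ffMap f).symm.trans hfψ
    rw [cancel_mono] at h
    exact Spec.map_injective h
  refine ⟨AlgEquiv.ofRingEquiv (f := e.symm) fun a => ?_⟩
  show e.symm (algebraMap Y.functionField L a) = (NormHomLib.ffMap f).hom a
  rw [hψ]
  rfl

/-- Unramified points of the attached map. -/
theorem exists_unramified_nhd {X : Scheme.{u}} [X.Over (Spec (CommRingCat.of k))]
    [IsProper (X ↘ Spec (CommRingCat.of k))] [IsIntegral X] [VBLib.IsRegCurve X]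
    (hdim : topologicalKrullDim X = 1) (hdimY : topologicalKrullDim Y = 1) (f : X ⟶ Y) [IsFinite f] [Surjective f]
    (hf : f ≫ (Y ↘ Spec (CommRingCat.of k)) = X ↘ Spec (CommRingCat.of k)) (x : X)
    (h : letI := NormHomLib.ffAlg f
      (x = genericPoint X ∧ Algebra.IsSeparable Y.functionField X.functionField) ∨
      ∃ (hx : IsClosed ({x} : Set X)) (hy : IsClosed ({f x} : Set Y)),
        FunFld.ramIdx (CurveFF.placeOf k hdim x hx) (CurveFF.placeOf k hdimY (f x) hy) = 1) :
    ∃ U : X.Opens, x ∈ U ∧ FormallyUnramified (U.ι ≫ f) := by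
  letI := NormHomLib.ffAlg f
  suffices hsub : Subsingleton ((Omega.sheaf f).presheaf.stalk x) by
    by_contra hno
    refine ((S8915.result f x).2 hno |> fun hmem => ?_)
    exact (FittSheafLib.notMem_support_omega_zero_iff f x).2
      ((OmegaAffLib.subsingleton_stalk_iff f x).1 hsub) hmem
  refine (S2158.result f x).2 ⟨?_, (QFinLib.isClosed_asFiber_iff f x).1 (isClosed_discrete _), ?_⟩
  · rcases h with ⟨rfl, -⟩ | ⟨hx, hy, he⟩
    · have h1 := CurveFF.GenEtale.isField_stalk (X := X) (x := genericPoint X) rfl
      have h2 := CurveFF.GenEtale.isField_stalk (X := Y) (NormHomLib.map_genericPoint f)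
      rw [IsLocalRing.isField_iff_maximalIdeal_eq.1 h2, IsLocalRing.isField_iff_maximalIdeal_eq.1 h1, Ideal.map_bot]
    · haveI := CastSeveriLib.scalarTower f hf
      haveI := CurveFF.isDVR k hdim hx
      haveI := CurveFF.isDVR k hdimY hy
      obtain ⟨t, ht0, hto⟩ := FF.exists_ord_eq (CurveFF.placeOf k hdimY (f x) hy) 1
      have hlt : (CurveFF.placeOf k hdimY (f x) hy).1 t < 1 := by
        refine (FF.v_lt_one_iff_le_exp _ _).2 ((FF.v_le_exp_iff _ ht0).2 ?_)
        omega
      obtain ⟨a, rfl⟩ := (CurveFF.placeOf_le_one_iff hdimY hy t).1 hlt.le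
      have ha : a ∈ IsLocalRing.maximalIdeal (Y.presheaf.stalk (f x)) :=
        (IsDedekindDomain.HeightOneSpectrum.valuation_lt_one_iff_mem _ _).1 hlt
      refine le_antisymm (Ideal.map_le_iff_le_comap.2 fun b hb => ?_) fun b hb => ?_
      · rw [Ideal.mem_comap, IsLocalRing.mem_maximalIdeal, mem_nonunits_iff]
        exact fun hu => (IsLocalRing.mem_maximalIdeal b).1 hb (isUnit_of_map_unit (f.stalkMap x).hom b hu)
      · have hover := CastSeveriLib.isOver_placeOf hdim hdimY f hf hx hy
        set a' := (f.stalkMap x).hom a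
        have hva : (CurveFF.placeOf k hdim x hx).1 (algebraMap (X.presheaf.stalk x) X.functionField a') =
            WithZero.exp (-1) := by
          rw [← CurveFF.map_algebraMap_stalk f (NormHomLib.ffMap f).hom (CurveFF.fromSpecStalk_ffMap f) x a]
          show (CurveFF.placeOf k hdim x hx).1 (algebraMap Y.functionField X.functionField _) = _
          rw [FF.isOverWith_ramIdx hover, he, pow_one, FF.v_eq_exp _ ht0, hto]
        have hvb := (CurveFF.VeryAmple.val_le_exp_iff (k := k) hdim hx b 1).2 (by rwa [pow_one])
        have ha0 : algebraMap (X.presheaf.stalk x) X.functionField a' ≠ 0 := fun h0 => by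
          rw [h0, map_zero] at hva; exact WithZero.exp_ne_zero hva.symm
        obtain ⟨c, hc⟩ := (CurveFF.placeOf_le_one_iff hdim hx
          (algebraMap _ X.functionField b / algebraMap _ X.functionField a')).1 (by
            rw [map_div₀, hva, div_le_one₀ (zero_lt_iff.2 WithZero.exp_ne_zero)]; exact_mod_cast hvb)
        have : b = c * a' := IsFractionRing.injective (X.presheaf.stalk x) X.functionField (by
          rw [map_mul, hc, div_mul_cancel₀ _ ha0])
        rw [this]
        exact Ideal.mul_mem_left _ _ (Ideal.mem_map_of_mem _ ha)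
  · letI := (f.residueFieldMap x).hom.toAlgebra
    rcases h with ⟨rfl, hsep⟩ | ⟨hx, hy, -⟩
    · haveI := hsep
      exact Algebra.IsSeparable.of_equiv_equiv (CurveFF.GenEtale.baseEquiv f) (CurveFF.GenEtale.topEquiv (X := X))
        (RingHom.ext fun a => CurveFF.GenEtale.equiv_comm f a)
    · have h1 : Function.Surjective (f.residueFieldMap x).hom := by
        have e : Curv2.resMap k X x = (f.residueFieldMap x).hom.comp (Curv2.resMap k Y (f x)) := by
          refine congrArg CommRingCat.Hom.hom (show CommRingCat.ofHom (Curv2.resMap k X x) =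
            CommRingCat.ofHom (Curv2.resMap k Y (f x)) ≫ f.residueFieldMap x from Spec.map_injective ?_)
          rw [Spec.map_comp, GeomIrred.spec_resMap, GeomIrred.spec_resMap, ← Category.assoc,
            Scheme.Hom.SpecMap_residueFieldMap_fromSpecResidueField, Category.assoc, hf]
        intro z
        obtain ⟨c, rfl⟩ := (S19541.resMap_bijective (k := k) hx).2 z
        exact ⟨Curv2.resMap k Y (f x) c, (RingHom.congr_fun e c).symm⟩
      haveI : Algebra.IsSeparable (Y.residueField (f x)) (X.residueField x) := ⟨fun z => by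
        obtain ⟨c, rfl⟩ := h1 z
        exact isSeparable_algebraMap c⟩
      exact this

end Groth.Agent.CyclicCoverLib
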