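import Mathlib.RingTheory.AdjoinRoot
import Mathlib.RingTheory.Smooth.Basic
import Mathlib.RingTheory.Kaehler.Polynomial
import Groth.Agent.S9407

/-!
# Smoothness of cyclic covers
-/

set_option autoImplicit false
universe u
open Polynomial

namespace Groth.Agent.CyclicCoverLib

lemma add_pow_sq_zero {R : Type*} [CommRing R] (x y : R) (hy : y * y = 0) :
    ∀ n : ℕ, (x + y) ^ n = x ^ n + (n : R) * x ^ (n - 1) * y := by
  intro n
  induction n with
  | zero => simp
  | succ n ih =>
    cases n with
    | zero => simp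
    | succ m =>
      rw [pow_succ, ih]
      simp only [Nat.add_sub_cancel, pow_succ]
      push_cast
      linear_combination (((m : R) + 1) * x ^ m) * hy

variable {k A : Type u} [Field k] [CommRing A] [Algebra k A]

theorem smooth_quotient_of_smooth_cover [Algebra.Smooth k A] (s : A) (e : ℕ) (he : 2 ≤ e)
    (h : Algebra.Smooth k (AdjoinRoot (X ^ e - C s))) : Algebra.Smooth k (A ⧸ Ideal.span {s}) := by
  haveI := h
  haveI : Algebra.FinitePresentation k (A ⧸ Ideal.span {s}) :=
    Algebra.FinitePresentation.quotient ⟨{s}, by simp⟩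
  haveI : Algebra.FormallySmooth A A[X] :=
    Algebra.FormallySmooth.of_equiv (MvPolynomial.uniqueAlgEquiv A Unit)
  haveI : Algebra.FormallySmooth k A[X] := Algebra.FormallySmooth.comp k A A[X]
  let F : A[X] := X ^ e - C s
  let B := AdjoinRoot F
  let π : A[X] →ₐ[k] B := (Ideal.Quotient.mkₐ k (Ideal.span {F}) : _)
  have hπ : Function.Surjective π := Ideal.Quotient.mk_surjective
  obtain ⟨σ, hσ⟩ := (Algebra.FormallySmooth.iff_split_surjection π hπ).1 inferInstance
  let q : A →ₐ[k] A ⧸ Ideal.span {s} := Ideal.Quotient.mkₐ k _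
  let ev : A[X] →ₐ[k] A := (aeval (0 : A)).restrictScalars k
  let I2 : Ideal A := RingHom.ker q.toRingHom ^ 2
  let ε : A[X] ⧸ RingHom.ker π.toRingHom ^ 2 →ₐ[k] A ⧸ I2 :=
    Ideal.Quotient.liftₐ _ ((Ideal.Quotient.mkₐ k I2).comp ev) (fun x hx => by
      have h1 : RingHom.ker π.toRingHom ^ 2 ≤ I2.comap ev.toRingHom := by
        rw [← Ideal.map_le_iff_le_comap, Ideal.map_pow]
        refine Ideal.pow_right_mono ?_ 2
        rw [Ideal.map_le_iff_le_comap]
        intro y hy
        have hy' : y ∈ Ideal.span {F} := Ideal.Quotient.eq_zero_iff_mem.1 hy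
        obtain ⟨c, rfl⟩ := Ideal.mem_span_singleton.1 hy'
        refine Ideal.Quotient.eq_zero_iff_mem.2 ?_
        change ev (F * c) ∈ Ideal.span {s}
        rw [map_mul, Ideal.mem_span_singleton]
        refine Dvd.dvd.mul_right ⟨-1, ?_⟩ _
        simp [ev, F, zero_pow (show e ≠ 0 by omega)]
      exact Ideal.Quotient.eq_zero_iff_mem.2 (h1 hx))
  let ψ : B →ₐ[k] A ⧸ I2 := ε.comp σ
  have hψ : ∀ b : A[X], q.kerSquareLift (ψ (π b)) = q (ev b) := fun b => by
    obtain ⟨y, hy⟩ := Ideal.Quotient.mk_surjective (σ (π b))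
    change q.kerSquareLift (ε (σ (π b))) = _
    rw [← hy]
    change q (ev y) = q (ev b)
    have h1 : π y = π b := by
      have := DFunLike.congr_fun hσ (π b)
      simp only [AlgHom.comp_apply, AlgHom.coe_id, id_eq, ← hy] at this
      exact this
    have h2 : y - b ∈ Ideal.span {F} := (Ideal.Quotient.eq).1 h1
    obtain ⟨c, hc⟩ := Ideal.mem_span_singleton.1 h2
    rw [show y = b + F * c by linear_combination hc, map_add, map_mul, map_add,
      show q (ev F * ev c) = 0 from Ideal.Quotient.eq_zero_iff_mem.2 (Ideal.mem_span_singleton.2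
        (Dvd.dvd.mul_right ⟨-1, by simp [ev, F, zero_pow (show e ≠ 0 by omega)]⟩ _)), add_zero]
  let ψA : A →ₐ[k] A ⧸ I2 := ψ.comp (π.comp (IsScalarTower.toAlgHom k A A[X]))
  have hs0 : ψA s = 0 := by
    have hX : π X ^ e = π (C s) := by
      rw [← map_pow, ← sub_eq_zero, ← map_sub]
      exact Ideal.Quotient.eq_zero_iff_mem.2 (Ideal.mem_span_singleton_self _)
    have hk : ψ (π X) ∈ RingHom.ker q.kerSquareLift.toRingHom := by
      rw [RingHom.mem_ker]
      exact (hψ X).trans (by simp [ev])
    change ψ (π (C s)) = 0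
    rw [← hX, map_pow]
    rw [AlgHom.ker_kerSquareLift] at hk
    have h2 : ψ (π X) ^ 2 = 0 := by
      rw [sq, ← Ideal.mem_bot, ← Ideal.cotangentIdeal_square (RingHom.ker q.toRingHom), sq]
      exact Ideal.mul_mem_mul hk hk
    rw [show e = 2 + (e - 2) by omega, pow_add, h2, zero_mul]
  let g : (A ⧸ Ideal.span {s}) →ₐ[k] A ⧸ I2 :=
    Ideal.Quotient.liftₐ _ ψA (fun x hx => by
      obtain ⟨c, rfl⟩ := Ideal.mem_span_singleton.1 hx
      rw [map_mul, hs0, zero_mul])
  haveI : Algebra.FormallySmooth k (A ⧸ Ideal.span {s}) := by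
    refine Algebra.FormallySmooth.of_split q g (AlgHom.ext fun x => ?_)
    obtain ⟨a, rfl⟩ := Ideal.Quotient.mk_surjective x
    exact (hψ (C a)).trans (by simp [q, ev])
  exact ⟨inferInstance, inferInstance⟩

theorem smooth_cover_of_smooth_quotient [Algebra.Smooth k A] (s : A) (hs : Irreducible s) (e : ℕ)
    (he : 2 ≤ e) (hek : (e : k) ≠ 0) (h : Algebra.Smooth k (A ⧸ Ideal.span {s})) :
    Algebra.Smooth k (AdjoinRoot (X ^ e - C s)) := by
  haveI := h
  haveI : IsReduced A := Groth.Agent.S9407.result k A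
  haveI : Algebra.FormallySmooth A A[X] :=
    Algebra.FormallySmooth.of_equiv (MvPolynomial.uniqueAlgEquiv A Unit)
  haveI : Algebra.FormallySmooth k A[X] := Algebra.FormallySmooth.comp k A A[X]
  let F : A[X] := X ^ e - C s
  haveI : Algebra.FinitePresentation k (AdjoinRoot F) := by
    haveI : Algebra.FinitePresentation k A[X] :=
      Algebra.FinitePresentation.trans k A A[X]
    exact Algebra.FinitePresentation.quotient ⟨{F}, by simp⟩
  -- a derivation `D` with `D s = -1 - a s`
  let q : A →ₐ[k] A ⧸ Ideal.span {s} := Ideal.Quotient.mkₐ k _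
  obtain ⟨φ, hφ⟩ := (Algebra.FormallySmooth.iff_split_surjection q Ideal.Quotient.mk_surjective).1
    inferInstance
  let I2 : Ideal A := RingHom.ker q.toRingHom ^ 2
  let J : Ideal (A ⧸ I2) := (RingHom.ker q.toRingHom).cotangentIdeal
  have hJ : J ^ 2 = ⊥ := Ideal.cotangentIdeal_square _
  have hker : RingHom.ker q.toRingHom = Ideal.span {s} := Ideal.mk_ker
  have hJq : ∀ z : A ⧸ I2, q.kerSquareLift z = 0 → z ∈ J := fun z hz => by
    change z ∈ (RingHom.ker q.toRingHom).cotangentIdeal
    rw [← AlgHom.ker_kerSquareLift]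
    exact hz
  have hsJ : Ideal.Quotient.mk I2 s ∈ J :=
    hJq _ (Ideal.Quotient.eq_zero_iff_mem.2 (Ideal.mem_span_singleton_self s))
  have hlift : (Ideal.Quotient.mkₐ k J).comp (φ.comp q) =
      IsScalarTower.toAlgHom k A ((A ⧸ I2) ⧸ J) := by
    ext a
    change Ideal.Quotient.mk J (φ (q a)) = Ideal.Quotient.mk J (Ideal.Quotient.mk I2 a)
    rw [Ideal.Quotient.eq]
    refine hJq _ ?_
    rw [map_sub, sub_eq_zero]
    exact DFunLike.congr_fun hφ (q a)
  let δ : Derivation k A J := derivationToSquareZeroOfLift J hJ (φ.comp q) hlift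
  let m : A →ₗ[A] J := LinearMap.toSpanSingleton A J ⟨Ideal.Quotient.mk I2 s, hsJ⟩
  have hm : Function.Surjective m := by
    rintro ⟨z, hz⟩
    obtain ⟨r, rfl⟩ := Ideal.Quotient.mk_surjective z
    have hr : r ∈ Ideal.span {s} := by
      have : Ideal.Quotient.mk I2 r ∈ RingHom.ker q.kerSquareLift.toRingHom := by
        rw [AlgHom.ker_kerSquareLift]; exact hz
      rw [← hker]; exact this
    obtain ⟨c, rfl⟩ := Ideal.mem_span_singleton.1 hr
    refine ⟨c, Subtype.ext ?_⟩
    change c • Ideal.Quotient.mk I2 s = _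
    change _ = Ideal.Quotient.mk I2 (s * c)
    rw [Algebra.smul_def, mul_comm s c, map_mul]
    rfl
  obtain ⟨l, hl⟩ := Module.projective_lifting_property m δ.liftKaehlerDifferential hm
  let D : Derivation k A A := l.compDer (KaehlerDifferential.D k A)
  have hD : ∀ a, ((D a • (Ideal.Quotient.mk I2 s) : A ⧸ I2)) = φ (q a) - Ideal.Quotient.mk I2 a := by
    intro a
    have h1 : m (D a) = δ a := by
      have := DFunLike.congr_fun hl (KaehlerDifferential.D k A a)
      rw [Derivation.liftKaehlerDifferential_comp_D] at this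
      exact this
    exact congrArg Subtype.val h1
  obtain ⟨a₀, ha₀⟩ : ∃ a₀, D s = -1 - a₀ * s := by
    have h1 := hD s
    rw [show q s = 0 from Ideal.Quotient.eq_zero_iff_mem.2 (Ideal.mem_span_singleton_self s),
      map_zero, zero_sub, Algebra.smul_def, Ideal.Quotient.algebraMap_eq, ← map_mul, ← map_neg,
      Ideal.Quotient.eq] at h1
    rw [show I2 = Ideal.span {s * s} by simp only [I2, sq, hker, Ideal.span_singleton_mul_span_singleton],
      Ideal.mem_span_singleton] at h1
    obtain ⟨b, hb⟩ := h1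
    let u := D s + 1 - b * s
    have hu : u * s = 0 := by simp only [u]; linear_combination hb
    have hDu : u * D s + s * D u = 0 := by
      have := congrArg D hu
      rw [Derivation.leibniz, map_zero, smul_eq_mul, smul_eq_mul] at this
      linear_combination this
    have hDs : D s = u - 1 + b * s := by simp only [u]; ring
    have hcube : u * (u * (u - 1)) = 0 := by
      linear_combination u * hDu + (- D u - b * u) * hu - (u * u) * hDs
    have hidem : (u * u) * (u * u) = u * u := by linear_combination (u + 1) * hcube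
    have he0 : u * u * s = 0 := by linear_combination u * hu
    have hu2 : u * u = 0 := by
      have hfac : s = (1 - u * u) * (s + u * u) := by linear_combination he0 + hidem
      rcases hs.isUnit_or_isUnit hfac with h1 | h2
      · refine h1.mul_right_eq_zero.1 ?_
        linear_combination -hidem
      · have hirr : Irreducible (1 - u * u) := by
          have hass : Associated (1 - u * u) s := ⟨h2.unit, by
            rw [IsUnit.unit_spec]; exact hfac.symm⟩
          exact hass.symm.irreducible hs
        rcases hirr.isUnit_or_isUnit (show 1 - u * u = (1 - u * u) * (1 - u * u) by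
          linear_combination -hidem) with h3 | h3 <;> exact absurd h3 hirr.not_isUnit
    have hu0 : u = 0 := IsReduced.eq_zero _ ⟨2, by rw [sq]; exact hu2⟩
    refine ⟨-b, ?_⟩
    rw [hDs, hu0]; ring
  -- the section
  let π : A[X] →ₐ[k] AdjoinRoot F := (Ideal.Quotient.mkₐ k (Ideal.span {F}) : _)
  let P' := A[X] ⧸ RingHom.ker π.toRingHom ^ 2
  let mk' : A[X] →ₐ[k] P' := Ideal.Quotient.mkₐ k _
  let ff : P' := mk' F
  have hff : ff * ff = 0 := by
    change mk' F * mk' F = 0
    rw [← map_mul, ← sq]
    refine Ideal.Quotient.eq_zero_iff_mem.2 (Ideal.pow_mem_pow ?_ 2)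
    exact Ideal.Quotient.eq_zero_iff_mem.2 (Ideal.mem_span_singleton_self F)
  let c0 : A →ₐ[k] P' := mk'.comp (IsScalarTower.toAlgHom k A A[X])
  let Φ : A →ₐ[k] P' :=
    { toFun := fun a => c0 a - ff * c0 (D a)
      map_one' := by simp
      map_zero' := by simp
      map_add' := fun a b => by rw [map_add, map_add, map_add]; ring
      map_mul' := fun a b => by
        rw [Derivation.leibniz, map_mul, map_add, smul_eq_mul, smul_eq_mul, map_mul, map_mul]
        linear_combination (-(c0 (D a) * c0 (D b))) * hff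
      commutes' := fun r => by simp }
  obtain ⟨ue, hue⟩ : ∃ ue : A, (e : A) * ue = 1 := ⟨algebraMap k A ((e : k)⁻¹), by
    rw [← map_natCast (algebraMap k A), ← map_mul, mul_inv_cancel₀ hek, map_one]⟩
  let x : P' := mk' X
  let T : P' := x + ff * (c0 (a₀ * ue) * x)
  have hx : x ^ e = c0 s + ff := by
    change mk' X ^ e = mk' (C s) + mk' F
    rw [← map_pow, ← map_add]
    congr 1
    simp [F]
  have hT : F.eval₂ Φ.toRingHom T = 0 := by
    have h1 : x ^ (e - 1) * x = x ^ e := by rw [← pow_succ, Nat.sub_add_cancel (by omega)]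
    have h2 : (e : P') * c0 ue = 1 := by rw [← map_natCast c0, ← map_mul, hue, map_one]
    simp only [F, eval₂_sub, eval₂_X_pow, eval₂_C]
    change T ^ e - (c0 s - ff * c0 (D s)) = 0
    rw [add_pow_sq_zero _ _ (by linear_combination (c0 (a₀ * ue) * x) ^ 2 * hff), hx, ha₀,
      map_sub, map_neg, map_one, map_mul, map_mul]
    linear_combination (ff * c0 a₀ * ((e : P') * c0 ue)) * h1 +
      (ff * c0 a₀ * ((e : P') * c0 ue)) * hx + (ff * c0 a₀ * (c0 s + ff)) * h2 + c0 a₀ * hff
  let g0 : AdjoinRoot F →+* P' := AdjoinRoot.lift Φ.toRingHom T hT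
  let g : AdjoinRoot F →ₐ[k] P' :=
    { g0 with
      commutes' := fun r => by
        change g0 (AdjoinRoot.of F (algebraMap k A r)) = algebraMap k P' r
        rw [AdjoinRoot.lift_of]
        exact Φ.commutes r }
  have hπf : π F = 0 := Ideal.Quotient.eq_zero_iff_mem.2 (Ideal.mem_span_singleton_self F)
  haveI : Algebra.FormallySmooth k (AdjoinRoot F) := by
    refine Algebra.FormallySmooth.of_split π g (AlgHom.coe_ringHom_injective ?_)
    refine Ideal.Quotient.ringHom_ext (Polynomial.ringHom_ext (fun a => ?_) ?_)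
    · change π.kerSquareLift (g0 (AdjoinRoot.of F a)) = π (C a)
      rw [AdjoinRoot.lift_of]
      change π.kerSquareLift (c0 a - ff * c0 (D a)) = _
      rw [map_sub, map_mul, show π.kerSquareLift ff = 0 from hπf, zero_mul, sub_zero]
      rfl
    · change π.kerSquareLift (g0 (AdjoinRoot.root F)) = π X
      rw [AdjoinRoot.lift_root]
      simp only [T, map_add, map_mul, show π.kerSquareLift ff = 0 from hπf, zero_mul, add_zero]
      rfl
  exact ⟨inferInstance, inferInstance⟩

end Groth.Agent.CyclicCoverLib
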